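import Mathlib

/-!
The interface between the local analysis in a group with the involution centraliser of the transvection
of `SL(5,2)` and the universal property of the three models `SL(5,2)`, `M24` and the Held group.
-/

set_option autoImplicit false

namespace CfsgLib.HeUnique

universe u v

/-- The data carried over from a model `X`, with the involution `z` and the elementary abelian subgroups
`E₁`, `E₂` of order sixty-four, to an arbitrary group. -/
structure Amalgam {X : Type v} [Group X] (z : X) (E₁ E₂ : Subgroup X) (G : Type u) [Group G] where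
  θ : ↥(Subgroup.centralizer ({z} : Set X)) →* G
  ψ₁ : ↥(Subgroup.normalizer (E₁ : Set X)) →* G
  ψ₂ : ↥(Subgroup.normalizer (E₂ : Set X)) →* G
  θ_injective : Function.Injective θ
  agree₁ : ∀ (x : X) (h : x ∈ Subgroup.centralizer ({z} : Set X))
    (h' : x ∈ Subgroup.normalizer (E₁ : Set X)), θ ⟨x, h⟩ = ψ₁ ⟨x, h'⟩
  agree₂ : ∀ (x : X) (h : x ∈ Subgroup.centralizer ({z} : Set X))
    (h' : x ∈ Subgroup.normalizer (E₂ : Set X)), θ ⟨x, h⟩ = ψ₂ ⟨x, h'⟩
  agree₁₂ : ∀ (x : X) (h : x ∈ Subgroup.normalizer (E₁ : Set X))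
    (h' : x ∈ Subgroup.normalizer (E₂ : Set X)), ψ₁ ⟨x, h⟩ = ψ₂ ⟨x, h'⟩

/-- The universal property of the model for such data. -/
def Universal {X : Type v} [Group X] (z : X) (E₁ E₂ : Subgroup X) : Prop :=
  ∀ {G : Type u} [Group G] [Finite G] (A : Amalgam z E₁ E₂ G), ∃ Φ : X →* G,
    (∀ c : ↥(Subgroup.centralizer ({z} : Set X)), Φ c = A.θ c) ∧
    (∀ n : ↥(Subgroup.normalizer (E₁ : Set X)), Φ n = A.ψ₁ n) ∧
    (∀ n : ↥(Subgroup.normalizer (E₂ : Set X)), Φ n = A.ψ₂ n)

end CfsgLib.HeUnique
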