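import Mathlib.GroupTheory.Sylow
import Mathlib.GroupTheory.GroupAction.Quotient

/-!
A subgroup is the whole group when every 2-subgroup fixing two cosets has, in the stabiliser of one of
them, involutory cosets of two kinds: the endgame of recognitions from an involution centraliser
without knowledge of the order and without strongly embedded subgroups.
-/

set_option autoImplicit false

namespace CfsgLib.HeUnique

open Subgroup MulAction
open scoped Pointwise

/-- A subgroup is the whole group if, for every 2-subgroup `T` of it lying in another conjugate too,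
some involutory coset of `T` in its normaliser meets the invariant class `P` and another does not. -/
theorem eq_top_of_two_kinds {G : Type*} [Group G] [Finite G] (H : Subgroup G) (P : G → Prop)
    (hP : ∀ g x : G, P x → P (g * x * g⁻¹))
    (hT : ∀ T : Subgroup G, IsPGroup 2 T → T ≤ H → (∃ g ∉ H, ∀ t ∈ T, g⁻¹ * t * g ∈ H) →
      (∃ x ∈ H, x ∈ normalizer (T : Set G) ∧ x ∉ T ∧ x * x ∈ T ∧ ∃ t ∈ T, P (x * t)) ∧
      (∃ y ∈ H, y ∈ normalizer (T : Set G) ∧ y ∉ T ∧ y * y ∈ T ∧ ∀ t ∈ T, ¬ P (y * t))) :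
    H = ⊤ := by
  classical
  by_contra hne
  obtain ⟨g₀, hg₀⟩ : ∃ g, g ∉ H := by
    by_contra h
    exact hne ((eq_top_iff' H).2 fun g => not_not.1 fun hg => h ⟨g, hg⟩)
  -- a 2-subgroup of largest order fixing two points
  let Two : Subgroup G → Prop := fun T => IsPGroup 2 T ∧
    ∃ p q : G ⧸ H, p ≠ q ∧ ∀ t ∈ T, t • p = p ∧ t • q = q
  have hbot : Two ⊥ := ⟨IsPGroup.of_bot, (1 : G), (g₀ : G ⧸ H),
    fun e => hg₀ (by simpa using QuotientGroup.eq.1 e),
    fun t ht => by simp [mem_bot.1 ht]⟩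
  have : Finite (Subgroup G) := Finite.of_injective (fun T => (T : Set G)) SetLike.coe_injective
  obtain ⟨T, hTtwo, hmax⟩ := (Set.toFinite {T : Subgroup G | Two T}).exists_maximalFor
    (fun T : Subgroup G => Nat.card T) _ ⟨⊥, hbot⟩
  obtain ⟨hT2, p, q, hpq, hfix⟩ := hTtwo
  -- the cosets of the two kinds at any point fixed by `T`
  have hkinds : ∀ a b : G ⧸ H, a ≠ b → (∀ t ∈ T, t • a = a ∧ t • b = b) →
      (∃ x, x • a = a ∧ x ∈ normalizer (T : Set G) ∧ x ∉ T ∧ x * x ∈ T ∧ ∃ t ∈ T, P (x * t)) ∧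
      (∃ y, y • a = a ∧ y ∈ normalizer (T : Set G) ∧ y ∉ T ∧ y * y ∈ T ∧ ∀ t ∈ T, ¬ P (y * t)) := by
    intro a b hab hf
    induction a using QuotientGroup.induction_on with | H c => ?_
    induction b using QuotientGroup.induction_on with | H d => ?_
    have hmem : ∀ t : G, t • (c : G ⧸ H) = c ↔ c⁻¹ * t * c ∈ H := fun t => by
      rw [MulAction.Quotient.smul_coe, QuotientGroup.eq, smul_eq_mul, ← H.inv_mem_iff]
      simp [mul_assoc]
    let φ : G →* G := (MulAut.conj c⁻¹).toMonoidHom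
    have hφ : ∀ x, φ x = c⁻¹ * x * c := fun x => by simp [φ]
    have hφi : Function.Injective φ := (MulAut.conj c⁻¹).injective
    have hmem' : ∀ x, φ x ∈ T.map φ ↔ x ∈ T := fun x => mem_map_iff_mem hφi
    have h1 : T.map φ ≤ H := by
      rintro _ ⟨t, ht, rfl⟩
      rw [hφ]
      exact (hmem t).1 (hf t ht).1
    obtain ⟨⟨x, hx, hxn, hxT, hx2, s, hs, hxs⟩, ⟨y, hy, hyn, hyT, hy2, hys⟩⟩ :=
      hT (T.map φ) (hT2.map φ) h1 ⟨c⁻¹ * d, fun e => hab (QuotientGroup.eq.2 e), by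
        rintro _ ⟨t, ht, rfl⟩
        have h2 := (hf t ht).2
        rw [MulAction.Quotient.smul_coe, QuotientGroup.eq, smul_eq_mul, ← H.inv_mem_iff] at h2
        rw [hφ]
        convert h2 using 1
        group⟩
    have hback : ∀ x, x = φ (c * x * c⁻¹) := fun x => by rw [hφ]; group
    have htrans : ∀ x, x ∈ H → x ∈ normalizer (T.map φ : Set G) → x ∉ T.map φ → x * x ∈ T.map φ →
        (c * x * c⁻¹) • (c : G ⧸ H) = c ∧ c * x * c⁻¹ ∈ normalizer (T : Set G) ∧ c * x * c⁻¹ ∉ T ∧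
          c * x * c⁻¹ * (c * x * c⁻¹) ∈ T := by
      intro x hx hxn hxT hx2
      refine ⟨(hmem _).2 (by convert hx using 1; group), mem_normalizer_iff.2 fun t => ?_,
        fun e => hxT (hback x ▸ (hmem' _).2 e), ?_⟩
      · rw [← hmem', ← hmem' (_ * t * _), map_mul, map_mul, map_inv, ← hback x]
        exact mem_normalizer_iff.1 hxn (φ t)
      · rw [← hmem', map_mul, ← hback x]
        exact hx2
    obtain ⟨ha1, ha2, ha3, ha4⟩ := htrans x hx hxn hxT hx2
    obtain ⟨hb1, hb2, hb3, hb4⟩ := htrans y hy hyn hyT hy2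
    obtain ⟨t, ht, rfl⟩ := hs
    refine ⟨⟨_, ha1, ha2, ha3, ha4, t, ht, ?_⟩, ⟨_, hb1, hb2, hb3, hb4, fun t ht hPt => ?_⟩⟩
    · have := hP c _ hxs
      rw [hφ] at this
      convert this using 1
      group
    · refine hys _ (mem_map_of_mem φ ht) ?_
      have := hP c⁻¹ _ hPt
      rw [hφ]
      convert this using 1
      group
  obtain ⟨x, hxp, hxn, hxT, hx2, t₁, ht₁, hPx⟩ := (hkinds p q hpq hfix).1
  obtain ⟨y, hyq, hyn, hyT, hy2, hPy⟩ :=
    (hkinds q p hpq.symm fun t ht => ⟨(hfix t ht).2, (hfix t ht).1⟩).2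
  set N := normalizer (T : Set G) with hNdef
  -- by maximality an involutory coset fixes at most one of the points fixed by `T`
  have hone : ∀ v ∈ N, v ∉ T → v * v ∈ T → ∀ a b : G ⧸ H, (∀ t ∈ T, t • a = a) → (∀ t ∈ T, t • b = b) →
      v • a = a → v • b = b → a = b := by
    intro v hv hvT hv2 a b ha hb hva hvb
    by_contra hab
    let T' := T ⊔ zpowers v
    have hp : IsPGroup 2 T' := by
      rintro ⟨m, hm⟩
      obtain ⟨i, hi⟩ : ∃ i, m * v ^ (i : ℕ) ∈ T := by
        have hm' : m ∈ (T : Set G) * (zpowers v : Set G) := by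
          rwa [← coe_mul_of_right_le_normalizer_left T _ (zpowers_le.2 hv)]
        obtain ⟨r, hr, w, hw, rfl⟩ := hm'
        obtain ⟨j, rfl⟩ := mem_zpowers_iff.1 hw
        rcases Int.even_or_odd' j with ⟨k, rfl | rfl⟩
        · refine ⟨0, ?_⟩
          rw [pow_zero, mul_one, zpow_mul]
          exact mul_mem hr (zpow_mem (by simpa [pow_two] using hv2) k)
        · refine ⟨1, ?_⟩
          rw [pow_one, zpow_add_one, zpow_mul, mul_assoc, mul_assoc]
          exact mul_mem hr (mul_mem (zpow_mem (by simpa [pow_two] using hv2) k) hv2)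
      have hm2 : m * m ∈ T := by
        have hN : v ^ i ∈ N := pow_mem hv i
        have hv2i : v ^ i * v ^ i ∈ T := by
          rw [← (Commute.refl v).mul_pow]
          exact pow_mem hv2 i
        have e : m * m = (m * v ^ i) * ((v ^ i)⁻¹ * (m * v ^ i) * v ^ i) * (v ^ i * v ^ i)⁻¹ := by group
        rw [e]
        exact mul_mem (mul_mem hi (mem_normalizer_iff''.1 hN (m * v ^ i) |>.1 hi)) (inv_mem hv2i)
      obtain ⟨k, hk⟩ := hT2 ⟨_, hm2⟩
      refine ⟨k + 1, Subtype.ext ?_⟩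
      have h3 := congrArg Subtype.val hk
      simp only [SubgroupClass.coe_pow, OneMemClass.coe_one] at h3 ⊢
      rwa [pow_succ', pow_mul, pow_two]
    have hlt : T < T' := lt_of_le_of_ne le_sup_left fun e =>
      hvT (e ▸ (le_sup_right : zpowers v ≤ T') (mem_zpowers v))
    have hle : T' ≤ stabilizer G a ⊓ stabilizer G b :=
      sup_le (fun t ht => ⟨ha t ht, hb t ht⟩) (zpowers_le.2 ⟨hva, hvb⟩)
    have hcard := hmax (j := T') ⟨hp, a, b, hab, fun t ht => ⟨(hle ht).1, (hle ht).2⟩⟩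
      (Subgroup.card_le_of_le hlt.le)
    exact hlt.ne (eq_of_le_of_card_ge hlt.le hcard)
  -- the points fixed by `T` form an odd set permuted by `N`
  let F := {a : G ⧸ H // ∀ t ∈ T, t • a = a}
  have hperm : ∀ v ∈ N, ∀ a : F, ∀ t ∈ T, t • (v • (a : G ⧸ H)) = v • (a : G ⧸ H) := by
    intro v hv a t ht
    rw [← mul_smul, show t * v = v * (v⁻¹ * t * v) by group, mul_smul,
      a.2 _ ((mem_normalizer_iff''.1 hv t).1 ht)]
  have hinvol : ∀ v (hv : v ∈ N), v * v ∈ T → Function.Involutive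
      (fun a : F => (⟨v • (a : G ⧸ H), fun t ht => hperm v hv a t ht⟩ : F)) := fun v hv hv2 a =>
    Subtype.ext (show v • v • (a : G ⧸ H) = a by rw [← mul_smul, a.2 _ hv2])
  have : Fintype F := Fintype.ofFinite F
  have hodd : ¬ 2 ∣ Fintype.card F := by
    have : Fact (Nat.Prime 2) := ⟨Nat.prime_two⟩
    let σ : Equiv.Perm F := Function.Involutive.toPerm _ (hinvol x hxn hx2)
    have hσ : σ ^ 2 ^ 1 = 1 := Equiv.ext fun a => hinvol x hxn hx2 a
    intro hdvd
    obtain ⟨b, hb⟩ := σ.exists_fixed_point_of_prime' (p := 2) (n := 1) hdvd hσ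
      (a := ⟨p, fun t ht => (hfix t ht).1⟩) (Subtype.ext hxp)
    exact hb.2 (Subtype.ext (hone x hxn hxT hx2 _ _ b.2 (fun t ht => (hfix t ht).1)
      (congrArg Subtype.val hb.1) hxp))
  -- the central involution of the dihedral group of the two cosets
  let TN := T.subgroupOf N
  have hTN : TN.Normal := normal_in_normalizer
  let π : N →* N ⧸ TN := QuotientGroup.mk' TN
  have hπ : ∀ v : N, π v = 1 ↔ (v : G) ∈ T := fun v =>
    (QuotientGroup.eq_one_iff v).trans mem_subgroupOf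
  set a := π ⟨x, hxn⟩ with hadef
  set b := π ⟨y, hyn⟩ with hbdef
  have ha2 : a * a = 1 := by rw [hadef, ← map_mul, hπ]; exact hx2
  have hb2 : b * b = 1 := by rw [hbdef, ← map_mul, hπ]; exact hy2
  have hai : a⁻¹ = a := inv_eq_of_mul_eq_one_right ha2
  have hbi : b⁻¹ = b := inv_eq_of_mul_eq_one_right hb2
  have hnc : ∀ n : N ⧸ TN, n * a * n⁻¹ ≠ b := by
    intro n hn
    obtain ⟨n, rfl⟩ := QuotientGroup.mk'_surjective TN n
    rw [hadef, hbdef, ← map_mul, ← map_inv, ← map_mul, ← mul_inv_eq_one, ← map_inv, ← map_mul, hπ] at hn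
    -- `y` differs from a conjugate of `x * t₁` by an element of `T`
    refine hPy (y⁻¹ * ((n : G) * (x * t₁) * (n : G)⁻¹)) ?_ (by simpa using hP n _ hPx)
    have h1 : y⁻¹ * ((n : G) * x * (n : G)⁻¹) ∈ T := by
      have := (mem_normalizer_iff''.1 hyn _).1 hn
      simpa [mul_assoc] using this
    have h2 : (n : G) * t₁ * (n : G)⁻¹ ∈ T := (mem_normalizer_iff.1 n.2 t₁).1 ht₁
    have := mul_mem h1 h2
    simpa [mul_assoc] using this
  set r := a * b with hr
  have hconj : a * r * a⁻¹ = r⁻¹ := by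
    rw [hai, hr, mul_inv_rev, hai, hbi, ← mul_assoc, ha2, one_mul]
  have heven : 2 ∣ orderOf r := by
    by_contra hodd'
    obtain ⟨k, hk⟩ := Nat.odd_iff.2 (Nat.two_dvd_ne_zero.1 hodd')
    have h0 : r ^ (2 * k + 1) = 1 := by rw [← hk, pow_orderOf_eq_one]
    have h1 : a * r ^ k * a⁻¹ = (r ^ k)⁻¹ := by rw [← conj_pow, hconj, inv_pow]
    refine hnc (r ^ k) ?_
    have h2 : a * (r ^ k)⁻¹ = r ^ k * a := by
      calc a * (r ^ k)⁻¹ = a * (a * r ^ k * a⁻¹) := by rw [h1]
        _ = a * a * r ^ k * a⁻¹ := by simp [mul_assoc]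
        _ = r ^ k * a := by rw [ha2, one_mul, hai]
    rw [mul_assoc, h2, ← mul_assoc, ← pow_add]
    have h3 : r ^ (k + k) = r⁻¹ := eq_inv_of_mul_eq_one_left (by rw [← pow_succ, ← two_mul, h0])
    rw [h3, hr, mul_inv_rev, hai, hbi, mul_assoc, ha2, mul_one]
  obtain ⟨m, hm⟩ := heven
  obtain ⟨w, hw⟩ := QuotientGroup.mk'_surjective TN (r ^ m)
  have hm0 : 0 < m := by have := orderOf_pos r; omega
  have hw1 : (w : G) ∉ T := fun e => by
    have h1 : r ^ m = 1 := hw ▸ (hπ w).2 e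
    have h2 := Nat.le_of_dvd hm0 (orderOf_dvd_of_pow_eq_one h1)
    omega
  have hw2 : (w : G) * w ∈ T := by
    rw [← Subgroup.coe_mul, ← hπ, map_mul, hw, ← pow_add, ← two_mul, ← hm, pow_orderOf_eq_one]
  have hrm : (r ^ m)⁻¹ = r ^ m := inv_eq_of_mul_eq_one_right
    (by rw [← pow_add, ← two_mul, ← hm, pow_orderOf_eq_one])
  have hca : a * r ^ m * a⁻¹ = r ^ m := by rw [← conj_pow, hconj, inv_pow, hrm]
  have hcb : b * r ^ m * b⁻¹ = r ^ m := by
    rw [show b = a * r by rw [hr, ← mul_assoc, ha2, one_mul], mul_inv_rev,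
      show a * r * r ^ m * (r⁻¹ * a⁻¹) = a * (r * r ^ m * r⁻¹) * a⁻¹ by group,
      (Commute.self_pow r m).eq, mul_inv_cancel_right, hca]
  obtain ⟨e, he⟩ := Equiv.Perm.exists_fixed_point_of_prime (p := 2) (n := 1) hodd
    (σ := Function.Involutive.toPerm _ (hinvol w w.2 hw2)) (Equiv.ext fun c => hinvol w w.2 hw2 c)
  have hwe : (w : G) • (e : G ⧸ H) = e := congrArg Subtype.val he
  -- `x` and `y` fix the fixed point of `w`
  have hfixw : ∀ v (hv : v ∈ N), v * v ∈ T → π ⟨v, hv⟩ * r ^ m * (π ⟨v, hv⟩)⁻¹ = r ^ m →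
      v • (e : G ⧸ H) = e := by
    intro v hv hv2 hc
    refine hone w w.2 hw1 hw2 _ _ (fun t ht => hperm v hv e t ht) e.2 ?_ hwe
    have h1 : v⁻¹ * (w : G)⁻¹ * v * w ∈ T := by
      have h2 : π (⟨v, hv⟩⁻¹ * w⁻¹ * ⟨v, hv⟩ * w) = 1 := by
        rw [map_mul, map_mul, map_mul, map_inv, map_inv, show π w = r ^ m from hw]
        have h3 : π ⟨v, hv⟩ * r ^ m = r ^ m * π ⟨v, hv⟩ := mul_inv_eq_iff_eq_mul.1 hc
        rw [hrm, mul_assoc (π _)⁻¹, ← h3, inv_mul_cancel_left, ← pow_add, ← two_mul, ← hm,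
          pow_orderOf_eq_one]
      exact (hπ _).1 h2
    calc (w : G) • v • (e : G ⧸ H) = (w * v) • (e : G ⧸ H) := (mul_smul _ _ _).symm
      _ = (v * w) • (e : G ⧸ H) := by
          conv_rhs => rw [show v * (w : G) = (w * v) * (v⁻¹ * (w : G)⁻¹ * v * w) by group, mul_smul,
            e.2 _ h1]
      _ = v • (e : G ⧸ H) := by rw [mul_smul, hwe]
  have hep : (e : G ⧸ H) = p :=
    hone x hxn hxT hx2 _ _ e.2 (fun t ht => (hfix t ht).1) (hfixw x hxn hx2 hca) hxp
  have heq : (e : G ⧸ H) = q :=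
    hone y hyn hyT hy2 _ _ e.2 (fun t ht => (hfix t ht).2) (hfixw y hyn hy2 hcb) hyq
  exact hpq (hep.symm.trans heq)

end CfsgLib.HeUnique
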