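import Cfsg.Agent.Lib.HeUnique.C0.Defs
import Cfsg.Agent.Lib.HeUnique.Spec

/-!
Embeddings of the centraliser of a transvection of `SL(5,2)` as an involution centraliser, and their
fusion pattern.
-/

set_option autoImplicit false

namespace CfsgLib.HeUnique

universe u

/-- An involution centraliser isomorphic to the centraliser of the transvection. -/
structure CentEmb (G : Type u) [Group G] where
  θ : C0 →* G
  injective : Function.Injective θ
  range_eq : θ.range = Subgroup.centralizer ({θ z0} : Set G)

/-- The classes fused to the transvection are those with a bit of `r` set. -/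
def HasPat {G : Type u} [Group G] (θ : C0 →* G) (r : ℕ) : Prop :=
  ∀ k < 9, (r.testBit k = true ↔ IsConj (θ (repEl k)) (θ z0))

/-- The image of a subgroup of order sixty-four. -/
noncomputable def CentEmb.E {G : Type u} [Group G] (e : CentEmb G) (i : Fin 2) : Subgroup G :=
  (Eg i).map e.θ

end CfsgLib.HeUnique
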